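import Mathlib.AlgebraicGeometry.FunctionField
import Mathlib.AlgebraicGeometry.Morphisms.UnderlyingMap
import Mathlib.AlgebraicGeometry.Stalk
import Mathlib.RingTheory.LocalRing.LocalSubring
import Groth.Agent.SepCrit.Basic

/-!
Local rings of an integral scheme inside its function field (EGA I 8.2).
-/

open AlgebraicGeometry CategoryTheory TopologicalSpace

universe u

namespace Groth.Agent.Allied

theorem exists_factor {A B K : Type*} [CommRing A] [CommRing B] [CommRing K] (f : A →+* K)
    (g : B →+* K) (hg : Function.Injective g) (h : f.range ≤ g.range) :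
    ∃ φ : A →+* B, g.comp φ = f := by
  have hfac : ∀ a, ∃ b, g b = f a := fun a => h ⟨a, rfl⟩
  choose φ hφ using hfac
  refine ⟨{ toFun := φ
            map_one' := hg (by simp [hφ])
            map_mul' := fun a b => hg (by simp [hφ])
            map_zero' := hg (by simp [hφ])
            map_add' := fun a b => hg (by simp [hφ]) }, RingHom.ext hφ⟩

theorem isLocalHom_of_range_le {A B K : Type*} [CommRing A] [IsLocalRing A] [CommRing B]
    [IsLocalRing B] [CommRing K] [Nontrivial K] (f : A →+* K) (g : B →+* K) (φ : A →+* B)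
    (hφ : g.comp φ = f) (h : LocalSubring.range f ≤ LocalSubring.range g) : IsLocalHom φ := by
  obtain ⟨hle, hloc⟩ := LocalSubring.le_def.1 h
  refine ⟨fun a ha => ?_⟩
  let r : (LocalSubring.range f).toSubring := ⟨f a, ⟨a, rfl⟩⟩
  have hu : IsUnit (Subring.inclusion hle r) := by
    obtain ⟨b, hb⟩ := ha.exists_right_inv
    refine IsUnit.of_mul_eq_one ⟨g b, ⟨b, rfl⟩⟩ (Subtype.ext ?_)
    show f a * g b = 1
    rw [← hφ, RingHom.comp_apply, ← map_mul, hb, map_one]
  obtain ⟨⟨w, a', rfl⟩, hw⟩ := (hloc.map_nonunit r hu).exists_right_inv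
  have h1 : f a * f a' = 1 := congrArg Subtype.val hw
  by_contra hna
  have h2 : IsUnit (1 - a * a') :=
    IsLocalRing.isUnit_one_sub_self_of_mem_nonunits _ (fun hh => hna (isUnit_of_mul_isUnit_left hh))
  have h3 := h2.map f
  rw [map_sub, map_one, map_mul, h1, sub_self] at h3
  exact not_isUnit_zero h3

variable {X : Scheme.{u}} [IsIntegral X]

/-- The inclusion of a local ring in the function field. -/
noncomputable def toK (x : X) : X.presheaf.stalk x ⟶ X.functionField :=
  X.presheaf.stalkSpecializes ((genericPoint_spec X).specializes trivial)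

theorem toK_hom (x : X) : (toK x).hom = algebraMap (X.presheaf.stalk x) X.functionField := rfl

theorem toK_injective (x : X) : Function.Injective (toK x).hom :=
  IsFractionRing.injective (X.presheaf.stalk x) X.functionField

theorem specMap_toK (x : X) :
    Spec.map (toK x) ≫ X.fromSpecStalk x = X.fromSpecStalk (genericPoint X) :=
  Scheme.SpecMap_stalkSpecializes_fromSpecStalk _

theorem isDominant_specMap {R K : CommRingCat.{u}} (e : R ⟶ K) (he : Function.Injective e.hom) :
    IsDominant (Spec.map e) := by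
  refine ⟨?_⟩
  change DenseRange (PrimeSpectrum.comap e.hom)
  rw [PrimeSpectrum.denseRange_comap_iff_ker_le_nilRadical, (RingHom.injective_iff_ker_eq_bot _).1 he]
  exact bot_le

theorem hom_ext_of_injective {R K : CommRingCat.{u}} [IsReduced R] (e : R ⟶ K)
    (he : Function.Injective e.hom) [X.IsSeparated] {g h : Spec R ⟶ X}
    (H : Spec.map e ≫ g = Spec.map e ≫ h) : g = h :=
  have := isDominant_specMap e he
  ext_of_isDominant (Spec.map e) H

theorem specializes_of_range_le [X.IsSeparated] {x y : X}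
    (h : (toK x).hom.range ≤ (toK y).hom.range) : y ⤳ x := by
  obtain ⟨φ, hφ⟩ := exists_factor _ _ (toK_injective y) h
  have e : Spec.map (CommRingCat.ofHom φ) ≫ X.fromSpecStalk x = X.fromSpecStalk y := by
    refine hom_ext_of_injective (toK y) (toK_injective y) ?_
    rw [← Spec.map_comp_assoc, specMap_toK,
      show CommRingCat.ofHom φ ≫ toK y = toK x from CommRingCat.hom_ext hφ, specMap_toK]
  have h2 : y ∈ Set.range (X.fromSpecStalk x) := by
    refine ⟨Spec.map (CommRingCat.ofHom φ) (IsLocalRing.closedPoint _), ?_⟩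
    rw [← Scheme.Hom.comp_apply, e, Scheme.fromSpecStalk_closedPoint]
  rwa [Scheme.range_fromSpecStalk] at h2

theorem range_le_of_specializes {x y : X} (h : y ⤳ x) :
    (toK x).hom.range ≤ (toK y).hom.range := by
  rintro _ ⟨a, rfl⟩
  exact ⟨X.presheaf.stalkSpecializes h a, TopCat.Presheaf.stalkSpecializes_comp_apply X.presheaf _ h a⟩

theorem eq_of_allied [X.IsSeparated] {x y : X} {Q : LocalSubring X.functionField}
    (hx : LocalSubring.range (toK x).hom ≤ Q) (hy : LocalSubring.range (toK y).hom ≤ Q) : x = y := by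
  let q : CommRingCat.of Q.toSubring ⟶ X.functionField := CommRingCat.ofHom Q.toSubring.subtype
  have hq : Function.Injective q.hom := Subtype.val_injective
  have key : ∀ z : X, LocalSubring.range (toK z).hom ≤ Q →
      ∃ φ : X.presheaf.stalk z ⟶ CommRingCat.of Q.toSubring, IsLocalHom φ.hom ∧ φ ≫ q = toK z := by
    intro z hz
    obtain ⟨φ, hφ⟩ := exists_factor (toK z).hom q.hom hq (fun w hw => ⟨⟨w, hz.1 hw⟩, rfl⟩)
    refine ⟨CommRingCat.ofHom φ, ?_, CommRingCat.hom_ext hφ⟩
    have e : LocalSubring.range Q.toSubring.subtype = Q :=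
      LocalSubring.toSubring_injective (Subring.ext fun v => ⟨by rintro ⟨w, rfl⟩; exact w.2, fun hv => ⟨⟨v, hv⟩, rfl⟩⟩)
    exact isLocalHom_of_range_le _ Q.toSubring.subtype φ hφ (e.symm ▸ hz)
  obtain ⟨φ, hφl, hφ⟩ := key x hx
  obtain ⟨ψ, hψl, hψ⟩ := key y hy
  have : IsDomain Q.toSubring := inferInstance
  have e : Spec.map φ ≫ X.fromSpecStalk x = Spec.map ψ ≫ X.fromSpecStalk y := by
    refine hom_ext_of_injective q hq ?_
    rw [← Spec.map_comp_assoc, ← Spec.map_comp_assoc, hφ, hψ, specMap_toK, specMap_toK]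
  have h2 := congr($e (IsLocalRing.closedPoint Q.toSubring))
  rwa [Scheme.Hom.comp_apply, Scheme.Hom.comp_apply, Spec_closedPoint, Spec_closedPoint,
    Scheme.fromSpecStalk_closedPoint, Scheme.fromSpecStalk_closedPoint] at h2

theorem isSeparated_of_no_allied
    (h : ∀ (x y : X) (Q : LocalSubring X.functionField),
      LocalSubring.range (toK x).hom ≤ Q → LocalSubring.range (toK y).hom ≤ Q → x = y) :
    X.IsSeparated := by
  refine ⟨(SepCrit.isSeparated_iff (f := Limits.terminal.from X)
    (fun U : {U : X.affineOpens // (U.1 : Set X).Nonempty} => U.1.1) (fun U => U.1.2) ?_).2 ?_⟩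
  · refine top_le_iff.1 fun x _ => ?_
    obtain ⟨U, hU, hx, -⟩ := exists_isAffineOpen_mem_and_subset (Opens.mem_top x)
    exact Opens.mem_iSup.2 ⟨⟨⟨U, hU⟩, x, hx⟩, hx⟩
  rintro ⟨⟨U, hU⟩, hUne⟩ ⟨⟨V, hV⟩, hVne⟩
  let W := U ⊓ V
  have hWne : ((W : X.Opens) : Set X).Nonempty :=
    nonempty_preirreducible_inter U.2 V.2 hUne hVne
  have hη : ∀ {O : X.Opens}, (O : Set X).Nonempty → genericPoint X ∈ O := fun {O} hO =>
    ((genericPoint_spec X).mem_open_set_iff O.2).2 (by simpa using hO)
  let gU := X.presheaf.germ U (genericPoint X) (hη hUne)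
  let gV := X.presheaf.germ V (genericPoint X) (hη hVne)
  let gW := X.presheaf.germ W (genericPoint X) (hη hWne)
  have ginj : ∀ {O : X.Opens} (hO : genericPoint X ∈ O),
      Function.Injective (X.presheaf.germ O (genericPoint X) hO).hom :=
    fun hO => germ_injective_of_isIntegral X _ hO
  let C : Subring X.functionField := gU.hom.range ⊔ gV.hom.range
  let c : CommRingCat.of C ⟶ X.functionField := CommRingCat.ofHom C.subtype
  have hc : Function.Injective c.hom := Subtype.val_injective
  let aU : Γ(X, U) ⟶ CommRingCat.of C := CommRingCat.ofHom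
    (gU.hom.codRestrict C fun a => (le_sup_left : gU.hom.range ≤ C) ⟨a, rfl⟩)
  let aV : Γ(X, V) ⟶ CommRingCat.of C := CommRingCat.ofHom
    (gV.hom.codRestrict C fun a => (le_sup_right : gV.hom.range ≤ C) ⟨a, rfl⟩)
  let sU := Spec.map aU ≫ hU.fromSpec
  let sV := Spec.map aV ≫ hV.fromSpec
  have hgen : ∀ {O : X.Opens} (hO : IsAffineOpen O) (hm : genericPoint X ∈ O),
      Spec.map (X.presheaf.germ O (genericPoint X) hm) ≫ hO.fromSpec =
        X.fromSpecStalk (genericPoint X) :=
    fun hO hm => hO.fromSpecStalk_eq_fromSpecStalk hm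
  have hpt : ∀ r : Spec (CommRingCat.of C), sU r = sV r := by
    intro r
    have hdom : ∀ (O : X.Opens) (hO : IsAffineOpen O) (a : Γ(X, O) ⟶ CommRingCat.of C)
        (hm : genericPoint X ∈ O), a ≫ c = X.presheaf.germ O (genericPoint X) hm →
        LocalSubring.range (toK ((Spec.map a ≫ hO.fromSpec) r)).hom ≤
          LocalSubring.ofPrime C (r : PrimeSpectrum C).asIdeal := by
      intro O hO a hm ha
      let pt := (Spec.map a ≫ hO.fromSpec) r
      have hptO : pt ∈ O := hO.range_fromSpec.subset ⟨_, rfl⟩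
      let := TopCat.Presheaf.algebra_section_stalk X.presheaf (⟨pt, hptO⟩ : O)
      let p := (hO.primeIdealOf ⟨pt, hptO⟩).asIdeal
      have : IsLocalization.AtPrime (X.presheaf.stalk pt) p := hO.isLocalization_stalk _
      have hp : p = (Ideal.comap a.hom (r : PrimeSpectrum C).asIdeal) := by
        have h1 : hO.primeIdealOf ⟨pt, hptO⟩ = Spec.map a r :=
          hO.fromSpec.isOpenEmbedding.injective (hO.fromSpec_primeIdealOf _)
        exact congrArg PrimeSpectrum.asIdeal h1
      have hmap : ∀ b, (toK pt).hom (algebraMap Γ(X, O) (X.presheaf.stalk pt) b) =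
          (a.hom b : X.functionField) := fun b => by
        change (toK pt).hom (X.presheaf.germ O pt hptO b) = c.hom (a.hom b)
        rw [← CommRingCat.comp_apply a c, ha, toK, ← CommRingCat.comp_apply,
          X.presheaf.germ_stalkSpecializes]
      let Q := LocalSubring.ofPrime C (r : PrimeSpectrum C).asIdeal
      have hle : (LocalSubring.range (toK pt).hom).toSubring ≤ Q.toSubring := by
        rintro _ ⟨z, rfl⟩
        obtain ⟨⟨b, s⟩, hz⟩ := IsLocalization.surj p.primeCompl z
        have hs : a.hom s.1 ∉ (r : PrimeSpectrum C).asIdeal := fun hh => s.2 ((SetLike.ext_iff.1 hp s.1).2 hh)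
        obtain ⟨v, hv⟩ := (IsLocalization.map_units Q.toSubring
          (M := (r : PrimeSpectrum C).asIdeal.primeCompl) ⟨a.hom s.1, hs⟩).exists_right_inv
        have hv' : (a.hom s.1 : X.functionField) * (v : X.functionField) = 1 :=
          congrArg Subtype.val hv
        have hbv := Q.toSubring.mul_mem (LocalSubring.le_ofPrime C _ (a.hom b).2) v.2
        convert! hbv using 1
        rw [← hmap, ← hz, map_mul, hmap, mul_assoc, hv', mul_one]
      refine LocalSubring.le_def.2 ⟨hle, ⟨?_⟩⟩
      rintro ⟨_, z, rfl⟩ hu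
      by_cases hz : IsUnit z
      · obtain ⟨w, hw⟩ := hz.exists_right_inv
        exact IsUnit.of_mul_eq_one ⟨(toK pt).hom w, w, rfl⟩
          (Subtype.ext ((map_mul _ _ _).symm.trans (by rw [hw, map_one]; rfl)))
      exfalso
      obtain ⟨⟨b, s⟩, hz'⟩ := IsLocalization.surj p.primeCompl z
      have hb : b ∈ p := (IsLocalization.AtPrime.to_map_mem_maximal_iff (X.presheaf.stalk pt) p b).1
        (hz' ▸ Ideal.mul_mem_right _ _ hz)
      have hb' : ¬IsUnit (algebraMap C Q.toSubring (a.hom b)) := fun hh =>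
        (IsLocalization.AtPrime.isUnit_to_map_iff Q.toSubring _ _).1 hh
          (show a.hom b ∈ (r : PrimeSpectrum C).asIdeal from (hp ▸ hb :))
      have hs : IsUnit (algebraMap C Q.toSubring (a.hom s.1)) :=
        (IsLocalization.AtPrime.isUnit_to_map_iff Q.toSubring (r : PrimeSpectrum C).asIdeal _).2
          fun hh => s.2 ((SetLike.ext_iff.1 hp s.1).2 hh)
      apply hb'
      convert! hu.mul hs using 1
      refine Subtype.ext ?_
      change (a.hom b : X.functionField) = (toK pt).hom z * (a.hom s.1 : X.functionField)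
      rw [← hmap, ← hmap, ← hz', map_mul]
    exact h _ _ _ (hdom U hU aU (hη hUne) rfl) (hdom V hV aV (hη hVne) rfl)
  have hsVU : Set.range sV ⊆ Set.range U.ι := by
    rintro _ ⟨r, rfl⟩
    rw [← hpt, Scheme.Opens.range_ι, ← hU.range_fromSpec]
    exact ⟨_, rfl⟩
  have : IsAffine U := hU
  obtain ⟨φ, hφ⟩ := Spec.map_surjective (IsOpenImmersion.lift U.ι sV hsVU ≫ hU.isoSpec.hom)
  have hφ' : Spec.map φ ≫ hU.fromSpec = sV := by
    rw [hφ, Category.assoc, hU.isoSpec_hom, hU.toSpecΓ_fromSpec, IsOpenImmersion.lift_fac]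
  have hst : sU = sV := by
    rw [← hφ']
    show Spec.map aU ≫ hU.fromSpec = Spec.map φ ≫ hU.fromSpec
    congr 2
    have : φ ≫ c = gU := by
      apply Spec.map_injective
      rw [← cancel_mono hU.fromSpec, Spec.map_comp, Category.assoc, hφ', hgen hU]
      simp only [sV, ← Spec.map_comp_assoc]
      exact hgen hV (hη hVne)
    refine CommRingCat.hom_ext (RingHom.ext fun z => hc ?_)
    change (gU z : X.functionField) = (φ ≫ c) z
    exact (congr($this z)).symm
  have hsW : Set.range sU ⊆ Set.range W.ι := by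
    rintro _ ⟨r, rfl⟩
    rw [Scheme.Opens.range_ι]
    refine ⟨hU.range_fromSpec.subset ⟨_, rfl⟩, ?_⟩
    rw [hst]
    exact hV.range_fromSpec.subset ⟨_, rfl⟩
  let s := IsOpenImmersion.lift W.ι sU hsW
  have hCW : c.hom.range ≤ gW.hom.range := by
    intro z hz
    obtain ⟨z, rfl⟩ := hz
    refine (sup_le ?_ ?_ : C ≤ gW.hom.range) z.2
    · rintro _ ⟨a, rfl⟩
      exact ⟨X.presheaf.map (homOfLE (inf_le_left : W ≤ U)).op a, X.presheaf.germ_res_apply _ _ _ _⟩
    · rintro _ ⟨a, rfl⟩
      exact ⟨X.presheaf.map (homOfLE (inf_le_right : W ≤ V)).op a, X.presheaf.germ_res_apply _ _ _ _⟩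
  obtain ⟨ψ₀, hψ⟩ := exists_factor c.hom gW.hom (ginj _) hCW
  let ψ : CommRingCat.of C ⟶ Γ(X, W) := CommRingCat.ofHom ψ₀
  have hψ' : ψ ≫ gW = c := CommRingCat.hom_ext hψ
  have haU : aU ≫ ψ = X.presheaf.map (homOfLE (inf_le_left : W ≤ U)).op := by
    have e : (aU ≫ ψ) ≫ gW = X.presheaf.map (homOfLE (inf_le_left : W ≤ U)).op ≫ gW := by
      rw [Category.assoc, hψ', X.presheaf.germ_res]
      rfl
    exact CommRingCat.hom_ext (RingHom.ext fun z => ginj _ (congr($e z)))
  let w : W.toScheme ⟶ Spec (CommRingCat.of C) := W.toSpecΓ ≫ Spec.map ψ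
  have hw : w ≫ sU = W.ι := by
    simp only [w, sU, Category.assoc, ← Spec.map_comp_assoc, haU]
    rw [← Category.assoc, Scheme.Opens.toSpecΓ_SpecMap_presheaf_map, Category.assoc,
      hU.toSpecΓ_fromSpec, X.homOfLE_ι]
  have hsw : s ≫ w = 𝟙 _ := by
    obtain ⟨τ, hτ⟩ := Spec.map_surjective (s ≫ w)
    have h1 : aU ≫ τ = aU := by
      apply Spec.map_injective
      rw [← cancel_mono hU.fromSpec, Spec.map_comp, Category.assoc, hτ]
      simp only [Category.assoc]
      rw [show w ≫ Spec.map aU ≫ hU.fromSpec = W.ι from hw, IsOpenImmersion.lift_fac]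
    have h2 : aV ≫ τ = aV := by
      apply Spec.map_injective
      rw [← cancel_mono hV.fromSpec, Spec.map_comp, Category.assoc, hτ]
      simp only [Category.assoc]
      rw [show w ≫ Spec.map aV ≫ hV.fromSpec = W.ι from (congrArg (w ≫ ·) hst).symm.trans hw,
        IsOpenImmersion.lift_fac]
      exact hst
    have hid : τ = 𝟙 _ := by
      refine CommRingCat.hom_ext (RingHom.ext fun z => ?_)
      obtain ⟨z, hz⟩ := z
      have hz' : z ∈ Subring.closure (Set.range gU.hom ∪ Set.range gV.hom) := by
        rw [Subring.closure_union, ← RingHom.coe_range, ← RingHom.coe_range, Subring.closure_eq,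
          Subring.closure_eq]
        exact hz
      induction hz' using Subring.closure_induction with
      | mem z h =>
        rcases h with ⟨a, rfl⟩ | ⟨a, rfl⟩
        · exact congr($h1 a)
        · exact congr($h2 a)
      | zero => exact map_zero τ.hom
      | one => exact map_one τ.hom
      | add x y hx' hy' hx hy =>
        have hxC : x ∈ C := by
          rw [Subring.closure_union, ← RingHom.coe_range, ← RingHom.coe_range, Subring.closure_eq,
            Subring.closure_eq] at hx'; exact hx'
        have hyC : y ∈ C := by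
          rw [Subring.closure_union, ← RingHom.coe_range, ← RingHom.coe_range, Subring.closure_eq,
            Subring.closure_eq] at hy'; exact hy'
        exact (map_add τ.hom ⟨x, hxC⟩ ⟨y, hyC⟩).trans
          (congrArg₂ (· + ·) (hx hxC) (hy hyC))
      | neg x hx' hx =>
        have hxC : x ∈ C := by
          rw [Subring.closure_union, ← RingHom.coe_range, ← RingHom.coe_range, Subring.closure_eq,
            Subring.closure_eq] at hx'; exact hx'
        exact (map_neg τ.hom ⟨x, hxC⟩).trans (congrArg Neg.neg (hx hxC))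
      | mul x y hx' hy' hx hy =>
        have hxC : x ∈ C := by
          rw [Subring.closure_union, ← RingHom.coe_range, ← RingHom.coe_range, Subring.closure_eq,
            Subring.closure_eq] at hx'; exact hx'
        have hyC : y ∈ C := by
          rw [Subring.closure_union, ← RingHom.coe_range, ← RingHom.coe_range, Subring.closure_eq,
            Subring.closure_eq] at hy'; exact hy'
        exact (map_mul τ.hom ⟨x, hxC⟩ ⟨y, hyC⟩).trans
          (congrArg₂ (· * ·) (hx hxC) (hy hyC))
    rw [← hτ, hid, Spec.map_id]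
  have hws : w ≫ s = 𝟙 _ := by
    rw [← cancel_mono W.ι, Category.assoc, IsOpenImmersion.lift_fac, hw, Category.id_comp]
  have : IsIso w := ⟨s, hws, hsw⟩
  have hWaff : IsAffineOpen W := IsAffine.of_isIso w
  refine ⟨hWaff, ?_⟩
  have : IsIso W.toSpecΓ := by rw [← hWaff.isoSpec_hom]; infer_instance
  have hψiso : IsIso (Spec.map ψ) := IsIso.of_isIso_comp_left W.toSpecΓ _
  have hψs : Function.Surjective ψ.hom := by
    obtain ⟨χ, hχ⟩ := Spec.map_surjective (inv (Spec.map ψ))
    have h1 : χ ≫ ψ = 𝟙 _ := by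
      apply Spec.map_injective
      rw [Spec.map_comp, hχ, IsIso.hom_inv_id, Spec.map_id]
    exact fun z => ⟨χ z, congr($h1 z)⟩
  refine eq_top_iff.2 fun z _ => ?_
  obtain ⟨z, rfl⟩ := hψs z
  obtain ⟨z, hz⟩ := z
  have hz' : z ∈ Subring.closure (Set.range gU.hom ∪ Set.range gV.hom) := by
    rw [Subring.closure_union, ← RingHom.coe_range, ← RingHom.coe_range, Subring.closure_eq,
      Subring.closure_eq]
    exact hz
  have hmem : gW.hom (ψ.hom ⟨z, hz⟩) ∈ (Subring.closure
      (Set.range (X.presheaf.map (homOfLE (inf_le_left : W ≤ U)).op).hom ∪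
        Set.range (X.presheaf.map (homOfLE (inf_le_right : W ≤ V)).op).hom)).map gW.hom := by
    rw [show gW.hom (ψ.hom ⟨z, hz⟩) = z from congr($hψ' ⟨z, hz⟩), RingHom.map_closure,
      Set.image_union, ← Set.range_comp, ← Set.range_comp]
    convert! hz' using 3
    · exact congrArg Set.range (funext fun a => X.presheaf.germ_res_apply _ _ _ a)
    · exact congrArg Set.range (funext fun a => X.presheaf.germ_res_apply _ _ _ a)
  obtain ⟨z', hz'', he⟩ := hmem
  rw [← ginj _ he]
  exact hz''

end Groth.Agent.Allied
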